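import Groth.Prelude.Def_ModSt
import Groth.Agent.H14AlgSt.SubstackGen
import Groth.Agent.H06EGA9.FlatFibreBC
import Groth.Agent.H06EGA9.FlatConstructible
import Groth.Agent.H16Derived.KFlat.PerfAmp

/-!
# Families of modules are fibred in groupoids
-/

set_option autoImplicit false
set_option backward.isDefEq.respectTransparency false
set_option backward.isDefEq.respectTransparency.types false

universe u

open CategoryTheory CategoryTheory.Functor CategoryTheory.Limits AlgebraicGeometry

noncomputable section

namespace Groth.Agent.H14ModSt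

open ModSt

variable {X S : Scheme.{u}} {f : X ⟶ S}

/-- The counit-to-unit form of a comparison map. -/
lemma adjunct_bijective {Y Z : Scheme.{u}} {h : Y ⟶ Z} {N : Z.Modules} {M : Y.Modules}
    {c : N ⟶ (Scheme.Modules.pushforward h).obj M} (hc : IsCart h c) :
    IsIso (((Scheme.Modules.pullbackPushforwardAdjunction h).homEquiv N M).symm c) := by
  let adj := Scheme.Modules.pullbackPushforwardAdjunction h
  refine isIso_of_coyoneda_map_bijective _ fun M' => ?_
  have e : (fun v : M ⟶ M' => (adj.homEquiv N M).symm c ≫ v) =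
      (adj.homEquiv N M').symm ∘ fun v : M ⟶ M' => c ≫ (Scheme.Modules.pushforward h).map v := by
    funext v
    exact (adj.homEquiv_naturality_right_symm c v).symm
  rw [e]
  exact (Equiv.bijective _).comp (hc M')

/-- The module at the source of a morphism is the pullback of the one at the target. -/
def pullbackIsoOfHom {A B : Obj f} (φ : A ⟶ B) :
    (Scheme.Modules.pullback φ.top).obj B.E ≅ A.E :=
  haveI := adjunct_bijective φ.cart
  asIso (((Scheme.Modules.pullbackPushforwardAdjunction φ.top).homEquiv B.E A.E).symm φ.c)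

lemma isCart_unit {Y Z : Scheme.{u}} (h : Y ⟶ Z) (N : Z.Modules) :
    IsCart h ((Scheme.Modules.pullbackPushforwardAdjunction h).unit.app N) := fun M' => by
  let adj := Scheme.Modules.pullbackPushforwardAdjunction h
  have e : (fun v : (Scheme.Modules.pullback h).obj N ⟶ M' =>
      adj.unit.app N ≫ (Scheme.Modules.pushforward h).map v) = adj.homEquiv N M' := by
    funext v
    exact (adj.homEquiv_unit N M' v).symm
  rw [e]
  exact Equiv.bijective _

/-- A comparison map is cartesian if its composite with a cartesian one is. -/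
lemma isCart_of_comp {Y Z W : Scheme.{u}} {h₁ : Y ⟶ Z} {h₂ : Z ⟶ W} {P : W.Modules} {N : Z.Modules}
    {M : Y.Modules} {c₁ : N ⟶ (Scheme.Modules.pushforward h₁).obj M}
    {c₂ : P ⟶ (Scheme.Modules.pushforward h₂).obj N} (hc₂ : IsCart h₂ c₂)
    (hc : IsCart (h₁ ≫ h₂) (c₂ ≫ (Scheme.Modules.pushforward h₂).map c₁ ≫
      (Scheme.Modules.pushforwardComp h₁ h₂).hom.app M)) : IsCart h₁ c₁ := by
  intro M'
  have heq : (fun v : M ⟶ M' => (c₂ ≫ (Scheme.Modules.pushforward h₂).map c₁ ≫
      (Scheme.Modules.pushforwardComp h₁ h₂).hom.app M) ≫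
        (Scheme.Modules.pushforward (h₁ ≫ h₂)).map v) =
      (((Scheme.Modules.pushforwardComp h₁ h₂).app M').homToEquiv ∘
        (fun w : N ⟶ (Scheme.Modules.pushforward h₁).obj M' =>
          c₂ ≫ (Scheme.Modules.pushforward h₂).map w)) ∘
        (fun v : M ⟶ M' => c₁ ≫ (Scheme.Modules.pushforward h₁).map v) := by
    funext v
    simp only [Function.comp_apply, Iso.homToEquiv_apply, Iso.app_hom, Category.assoc,
      Functor.map_comp]
    rw [← (Scheme.Modules.pushforwardComp h₁ h₂).hom.naturality v]
    rfl
  have hb := hc M'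
  rw [heq] at hb
  exact (Function.Bijective.of_comp_iff' ((Equiv.bijective _).comp (hc₂ _)) _).1 hb

lemma heq_map_eqToHom {Y : Scheme.{u}} (M : Y.Modules) {U V : (TopologicalSpace.Opens Y)ᵒᵖ}
    (e : U = V) (x : M.presheaf.obj U) : HEq (M.presheaf.map (eqToHom e) x) x := by
  subst e
  simp

/-- The category of families of modules is fibred in groupoids. -/
theorem fam_fibGrpd (f : X ⟶ S) : FibCat.IsFibGrpd (Fam f).p where
  exists_lift {A T} φ := by
    let T' : Scheme.{u} := pullback A.q φ.left
    let top : T' ⟶ A.XT := pullback.fst _ _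
    let B : Obj f :=
      { base := T
        XT := T'
        p := top ≫ A.p
        q := pullback.snd _ _
        isPullback := by
          rw [← Over.w φ]
          exact (IsPullback.of_hasPullback A.q φ.left).paste_horiz A.isPullback
        E := (Scheme.Modules.pullback top).obj A.E }
    let ψ : B ⟶ A :=
      { base := φ
        top := top
        w_p := rfl
        w_q := pullback.condition
        c := (Scheme.Modules.pullbackPushforwardAdjunction top).unit.app A.E
        cart := isCart_unit top A.E }
    exact ⟨B, ψ, IsHomLift.map (Fam f).p ψ⟩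
  isStronglyCartesian {B A} φ := by
    refine ⟨fun {C} g ψ hψ => ?_⟩
    have hb : ψ.base = g ≫ φ.base := by
      simpa [Obj.forget] using (IsHomLift.fac' (Fam f).p (g ≫ (Fam f).p.map φ) ψ)
    have sq := φ.isPullback_top
    have hw : ψ.top ≫ A.q = (C.q ≫ g.left) ≫ φ.base.left := by
      rw [ψ.w_q, hb, Over.comp_left, Category.assoc]
    let t : C.XT ⟶ B.XT := sq.lift ψ.top (C.q ≫ g.left) hw
    have ht : t ≫ φ.top = ψ.top := sq.lift_fst _ _ _
    have htq : t ≫ B.q = C.q ≫ g.left := sq.lift_snd _ _ _
    let e := (Scheme.Modules.pushforwardComp t φ.top).app C.E ≪≫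
      (Scheme.Modules.pushforwardCongr ht).app C.E
    obtain ⟨v, hv⟩ := (φ.cart _).2 (ψ.c ≫ e.inv)
    have hv' : φ.c ≫ (Scheme.Modules.pushforward φ.top).map v ≫
        (Scheme.Modules.pushforwardComp t φ.top).hom.app C.E =
          ψ.c ≫ ((Scheme.Modules.pushforwardCongr ht).app C.E).inv := by
      change φ.c ≫ (Scheme.Modules.pushforward φ.top).map v = ψ.c ≫ e.inv at hv
      rw [← Category.assoc φ.c, hv]
      simp [e]
    let χ : C ⟶ B :=
      { base := g
        top := t
        w_p := by rw [← φ.w_p, reassoc_of% ht, ψ.w_p]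
        w_q := htq
        c := v
        cart := isCart_of_comp φ.cart (by
          rw [hv']
          exact ψ.cart.congr ht.symm) }
    refine ⟨χ, ⟨IsHomLift.map (Fam f).p χ, ?_⟩, ?_⟩
    · refine Obj.Hom.ext' hb.symm ht fun U x => ?_
      have h1 := congrArg (fun k => k.app U x) hv'
      refine (heq_of_eq h1).trans ?_
      simp
      exact heq_map_eqToHom C.E _ _
    · rintro χ' ⟨hl, hc⟩
      have hb' : χ'.base = g := by
        simpa [Obj.forget] using (IsHomLift.fac' (Fam f).p g χ')
      have htop : χ'.top = t := sq.hom_ext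
        ((congrArg (fun k : C ⟶ A => k.top) hc).trans ht.symm)
        (by rw [χ'.w_q, hb', htq])
      obtain ⟨b', t', wp, wq, c', hcart'⟩ := χ'
      change t' = t at htop
      change b' = g at hb'
      subst t'
      subst b'
      have : c' = v := (φ.cart _).1 (by
        change φ.c ≫ (Scheme.Modules.pushforward φ.top).map c' =
          φ.c ≫ (Scheme.Modules.pushforward φ.top).map v
        rw [← cancel_mono ((Scheme.Modules.pushforwardComp t φ.top).hom.app C.E), Category.assoc,
          Category.assoc, hv']
        refine Scheme.Modules.hom_ext _ _ fun U => ?_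
        ext x
        have h2 := congr_arg_heq (fun k : C ⟶ A => k.c.app U x) hc
        simp at h2 ⊢
        exact eq_of_heq (h2.trans (heq_map_eqToHom C.E _ _).symm))
      subst this
      rfl

lemma isCohObj_of_hom {A B : Obj f} (φ : B ⟶ A) (h : IsCohObj A) : IsCohObj B := by
  refine ⟨fun x => ?_, H16Derived.KFlat.Stalk.isFP_of_iso (pullbackIsoOfHom φ)
    (H06EGA9.isFP_pullback φ.top h.2)⟩
  exact (H06EGA9.isFlatOverAt_congr_iso B.q (pullbackIsoOfHom φ) x).1
    (H06EGA9.isFlatOverAt_of_isPullback φ.isPullback_top A.E x (h.1 _))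

/-- The category of coherent families is fibred in groupoids. -/
theorem coh_fibGrpd (f : X ⟶ S) : FibCat.IsFibGrpd (Coh f).p :=
  H14AlgSt.fullSub_fibGrpd_of_hom (fun φ h => isCohObj_of_hom φ h) (fam_fibGrpd f)

end Groth.Agent.H14ModSt
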